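import Groth.Agent.Lib.CentMT14.ToUnip
import Groth.Agent.Lib.CommHopf14.Largest
import Groth.Agent.Lib.MultHopf14.Frames
import Groth.Agent.Lib.MultHopf14.ToScheme
import Groth.Agent.Lib.MultLocal.Quot
import Groth.Agent.Lib.EssFree.Subgroup
import Groth.Agent.Lib.QuotTorus14.Split
import Groth.Agent.S7519

/-!
# The largest central subgroup of multiplicative type of an affine algebraic group
-/

universe u

open CategoryTheory MonoidalCategory CartesianMonoidalCategory MonObj GrpObj AlgebraicGeometry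
open CategoryTheory.Limits
open scoped TensorProduct

set_option backward.isDefEq.respectTransparency false

namespace GrothLib.CentMT14

open GrothLib.DiagGrp GrothLib.MultHopf14

variable {k : Type u} [Field k]

/-- The map of groups of a map of bialgebras. -/
noncomputable def specMap {A B : Type u} [CommRing A] [HopfAlgebra k A] [CommRing B] [HopfAlgebra k B]
    (φ : B →ₐc[k] A) : specGrp (R := k) A ⟶ specGrp (R := k) B :=
  Spec.mapMulEquiv (WithConv.toConv (φ : B →ₐ[k] A))

theorem specMap_left {A B : Type u} [CommRing A] [HopfAlgebra k A] [CommRing B] [HopfAlgebra k B]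
    (φ : B →ₐc[k] A) : (specMap φ).left = Spec.map (CommRingCat.ofHom (φ : B →+* A)) := rfl

instance isMonHom_specMap {A B : Type u} [CommRing A] [HopfAlgebra k A] [CommRing B] [HopfAlgebra k B]
    (φ : B →ₐc[k] A) : IsMonHom (specMap φ) := by
  have h : IsMonHom ((hopfSpec (CommRingCat.of k)).map
      (X := Opposite.op (CommHopfAlgCat.of k A)) (Y := Opposite.op (CommHopfAlgCat.of k B))
      (CommHopfAlgCat.ofHom φ).op).hom.hom :=
    Mon.Hom.isMonHom_hom _
  exact h

/-- A morphism to an affine scheme killing an ideal factors through its closed subscheme. -/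
theorem exists_fac_quotient {A : Type u} [CommRing A] [Algebra k A] (J : Ideal A) (X : Scheme.{u})
    (y : X ⟶ Spec (CommRingCat.of A))
    (hy : ∀ a ∈ J, ((Scheme.ΓSpecIso (CommRingCat.of A)).inv ≫ y.appTop).hom a = 0) :
    ∃ z : X ⟶ Spec (CommRingCat.of (A ⧸ J)), z ≫ Spec.map (CommRingCat.ofHom (Ideal.Quotient.mk J)) = y := by
  let r := ((Scheme.ΓSpecIso (CommRingCat.of A)).inv ≫ y.appTop).hom
  refine ⟨X.toSpecΓ ≫ Spec.map (CommRingCat.ofHom (Ideal.Quotient.lift J r hy)), ?_⟩
  rw [Category.assoc, ← Spec.map_comp, ← CommRingCat.ofHom_comp, Ideal.Quotient.lift_comp_mk,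
    CommRingCat.ofHom_hom, Spec.map_comp, ← Scheme.toSpecΓ_naturality_assoc]
  simp

/-- Functions of a morphism to an affine scheme which is constant after composition. -/
theorem fun_eq_zero {K A B : Type u} [CommRing K] [CommRing A] [CommRing B] (φ : B →+* A) (ε : B →+* K) {X : Scheme.{u}}
    (y : X ⟶ Spec (CommRingCat.of A)) (s : X ⟶ Spec (CommRingCat.of K))
    (h : y ≫ Spec.map (CommRingCat.ofHom φ) = s ≫ Spec.map (CommRingCat.ofHom ε)) (b : B) (hb : ε b = 0) :
    ((Scheme.ΓSpecIso (CommRingCat.of A)).inv ≫ y.appTop).hom (φ b) = 0 := by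
  have h1 := congrArg (fun t : X ⟶ Spec (CommRingCat.of B) =>
    (Scheme.ΓSpecIso (CommRingCat.of B)).inv ≫ t.appTop) h
  simp only [Scheme.Hom.comp_appTop] at h1
  rw [← Scheme.ΓSpecIso_inv_naturality_assoc, ← Scheme.ΓSpecIso_inv_naturality_assoc] at h1
  have h2 := congrArg (fun t : CommRingCat.of B ⟶ Γ(X, ⊤) => t.hom b) h1
  refine h2.trans ?_
  change ((Scheme.ΓSpecIso (CommRingCat.of K)).inv ≫ s.appTop).hom (ε b) = 0
  rw [hb, map_zero]

theorem one_left {B : Type u} [CommRing B] [HopfAlgebra k B] (Y : Over (Spec (CommRingCat.of k))) :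
    (1 : Y ⟶ specGrp (R := k) B).left =
      Y.hom ≫ Spec.map (CommRingCat.ofHom (Bialgebra.counitAlgHom k B).toRingHom) := by
  rw [Hom.one_def, Over.comp_left, one_spec_asOver_spec_left]
  rfl

/-- A morphism to an affine scheme, constant after composition, factors through the closed fibre. -/
theorem exists_fac_kernel {A B K : Type u} [CommRing A] [Algebra k A] [CommRing B] [CommRing K] (φ : B →+* A)
    (ε : B →+* K) (J : Ideal A) (hJ : J = Ideal.map φ (RingHom.ker ε)) {X : Scheme.{u}}
    (y : X ⟶ Spec (CommRingCat.of A)) (s : X ⟶ Spec (CommRingCat.of K))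
    (h : y ≫ Spec.map (CommRingCat.ofHom φ) = s ≫ Spec.map (CommRingCat.ofHom ε)) :
    ∃ z : X ⟶ Spec (CommRingCat.of (A ⧸ J)), z ≫ Spec.map (CommRingCat.ofHom (Ideal.Quotient.mk J)) = y := by
  have hle : J ≤ RingHom.ker ((Scheme.ΓSpecIso (CommRingCat.of A)).inv ≫ y.appTop).hom := by
    rw [hJ, Ideal.map_le_iff_le_comap]
    intro b hb
    exact fun_eq_zero φ ε y s h b hb
  exact exists_fac_quotient (k := k) J X y fun a ha => hle ha

theorem comp_specMap_left {A B : Type u} [CommRing A] [HopfAlgebra k A] [CommRing B] [HopfAlgebra k B]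
    (φ : B →ₐc[k] A) {Y : Over (Spec (CommRingCat.of k))} (y : Y ⟶ specGrp (R := k) A) :
    (y ≫ specMap φ).left = y.left ≫ Spec.map (CommRingCat.ofHom (φ : B →+* A)) := rfl

theorem fac_hom {A : Type u} [CommRing A] [Algebra k A] (J : Ideal A) {X : Scheme.{u}}
    (z : X ⟶ Spec (CommRingCat.of (A ⧸ J))) (y : X ⟶ Spec (CommRingCat.of A)) (s : X ⟶ Spec (CommRingCat.of k))
    (hz : z ≫ Spec.map (CommRingCat.ofHom (Ideal.Quotient.mk J)) = y)
    (hy : y ≫ Spec.map (CommRingCat.ofHom (algebraMap k A)) = s) :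
    z ≫ Spec.map (CommRingCat.ofHom (algebraMap k (A ⧸ J))) = s := by
  rw [← hy, ← hz, Category.assoc, ← Spec.map_comp, ← CommRingCat.ofHom_comp]
  rfl

/-- A point killed by a map of bialgebras lies in the kernel. -/
theorem exists_lift_kernel {A B : Type u} [CommRing A] [HopfAlgebra k A] [CommRing B] [HopfAlgebra k B]
    (φ : B →ₐc[k] A) (J : Ideal A) [J.IsHopfIdeal k]
    (hJ : J = Ideal.map (φ : B →+* A) (RingHom.ker (Bialgebra.counitAlgHom k B)))
    {Y : Over (Spec (CommRingCat.of k))} (y : Y ⟶ specGrp (R := k) A) (hy : y ≫ specMap φ = 1) :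
    ∃ z : Y ⟶ specGrp (R := k) (A ⧸ J), z ≫ specMap (Bialgebra.Quotient.mkBialgHom J) = y := by
  have h0 : (y ≫ specMap φ).left = (1 : Y ⟶ specGrp (R := k) B).left := by rw [hy]
  rw [comp_specMap_left, one_left] at h0
  obtain ⟨z, hz⟩ := exists_fac_kernel (k := k) (φ : B →+* A) (Bialgebra.counitAlgHom k B).toRingHom J hJ y.left Y.hom h0
  have h4 : y.left ≫ Spec.map (CommRingCat.ofHom (algebraMap k A)) = Y.hom := Over.w y
  refine ⟨Over.homMk z (fac_hom J z y.left Y.hom hz h4), Over.OverMorphism.ext ?_⟩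
  rw [comp_specMap_left]
  exact hz

/-- A commutative group has a cocommutative Hopf algebra. -/
theorem isCocomm_of_comm {A : Type u} [CommRing A] [HopfAlgebra k A]
    (hc : ∀ (Y : Over (Spec (CommRingCat.of k))) (a b : Y ⟶ specGrp (R := k) A), a * b = b * a) :
    Coalgebra.IsCocomm k A := by
  refine ⟨?_⟩
  have h := (isComul_specPt (R := k) A).comm (isUniv_specPt A) hc
  exact congrArg AlgHom.toLinearMap h

/-- A Hopf algebra of multiplicative type gives a group of multiplicative type. -/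
theorem isMultTypeFT_specGrp {A : Type u} [CommRing A] [HopfAlgebra k A] [Algebra.FiniteType k A]
    (hA : SGA3b.IsMultTypeConst k A) : SGA3x.IsMultTypeFT (specGrp (R := k) A) := by
  obtain ⟨T, _, _, hT, M, _, ⟨e⟩⟩ := hA
  obtain ⟨g, hg⟩ := GrothLib.MultLocal.exists_frame_of_equiv e
  haveI := hT
  haveI : Nontrivial T := PrimeSpectrum.nonempty_iff_nontrivial.mp
    ⟨(PrimeSpectrum.comap_surjective_of_faithfullyFlat (A := k) (B := T) default).choose⟩
  haveI : Algebra.FiniteType T (MonoidAlgebra T M) :=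
    Algebra.FiniteType.equiv (inferInstance : Algebra.FiniteType T (T ⊗[k] A)) e.toAlgEquiv
  have hM : Group.FG M := (MonoidAlgebra.finiteType_iff_group_fg (R := T)).mp inferInstance
  refine GrothLib.QuotTorus14.isMultTypeFT_of_charts (hasChartsFpqc_of_frames (σ := PUnit.{u + 1}) (fun _ => T)
    ⟨inferInstance, fun _ => inferInstance, fun p => ?_⟩ (fun _ => hM) (g := fun _ => g) fun _ => hg)
  obtain ⟨q, hq⟩ := PrimeSpectrum.comap_surjective_of_faithfullyFlat (A := k) (B := T) p
  exact ⟨⟨⟩, q, hq⟩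

theorem isMonHom_of_comp {C : Type*} [Category C] [CartesianMonoidalCategory C] {H X Y : C} [MonObj H] [MonObj X]
    [MonObj Y] (w : H ⟶ X) (m : X ⟶ Y) [IsMonHom m] [Mono m] [IsMonHom (w ≫ m)] : IsMonHom w where
  one_hom := by rw [← cancel_mono m, Category.assoc, IsMonHom.one_hom (w ≫ m), IsMonHom.one_hom]
  mul_hom := by
    rw [← cancel_mono m, Category.assoc, IsMonHom.mul_hom (w ≫ m), Category.assoc, IsMonHom.mul_hom,
      ← Category.assoc, tensorHom_comp_tensorHom]

/-- The largest central subgroup of multiplicative type, universal over all bases. -/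
theorem exists_reductiveCentre (G : Over (Spec (CommRingCat.of k))) [GrpObj G] [IsAffine G.left]
    [LocallyOfFiniteType G.hom] :
    ∃ (Z : Over (Spec (CommRingCat.of k))) (_ : GrpObj Z) (z : Z ⟶ G), IsMonHom z ∧ IsClosedImmersion z.left ∧
      Mono z ∧ SGA3x.IsMultTypeFT Z ∧
      (∀ (X : Over (Spec (CommRingCat.of k))) (x : X ⟶ Z) (g : X ⟶ G), (x ≫ z) * g = g * (x ≫ z)) ∧
      ∀ (S' : Scheme.{u}) (f : S' ⟶ Spec (CommRingCat.of k)) (H : Over S') [GrpObj H] (v : H ⟶ Red.bc f G)
        [IsMonHom v], SGA3x.IsMultTypeFT H →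
        (∀ (X : Over S') (x : X ⟶ H) (g : X ⟶ Red.bc f G), (x ≫ v) * g = g * (x ≫ v)) →
        ∃ w : H ⟶ Red.bc f Z, w ≫ (Over.pullback f).map z = v := by
  obtain ⟨Z₀, incl, hcl, hcen⟩ := Groth.Agent.S7519.result k G
  haveI := hcl
  haveI : Mono incl := Over.mono_of_mono_left incl
  have hpt : ∀ {T : Over (Spec (CommRingCat.of k))} (a : T ⟶ Z₀) (g : T ⟶ G), (a ≫ incl) * g = g * (a ≫ incl) :=
    fun {T} a g => by simpa using (hcen T (a ≫ incl)).1 ⟨a, rfl⟩ T (𝟙 T) g
  obtain ⟨gZ, hmi⟩ := GrothLib.EssFree.exists_grpObj_of_mono incl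
    (fun T => (hcen T 1).2 fun T' h g' => by simp [MonObj.comp_one])
    (fun T a b => (hcen T _).2 fun T' h g' => by
      rw [MonObj.comp_mul, ← Category.assoc, ← Category.assoc, _root_.mul_assoc, hpt (h ≫ b), ← _root_.mul_assoc,
        hpt (h ≫ a), _root_.mul_assoc])
    (fun T a => (hcen T _).2 fun T' h g' => by
      rw [GrpObj.comp_inv, ← Category.assoc]
      exact Commute.inv_left (hpt (h ≫ a) g'))
  haveI := hmi
  haveI : IsAffine Z₀.left := isAffine_of_isAffineHom incl.left
  haveI : IsAffineHom Z₀.hom := isAffineHom_of_isAffine _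
  obtain ⟨A, _, _, ⟨e⟩⟩ := exists_hopf Z₀ inferInstance
  let eh : specGrp (R := k) A ⟶ Z₀ := e.hom.hom.hom
  haveI : IsMonHom eh := Mon.Hom.isMonHom_hom _
  haveI : IsIso eh := inferInstanceAs (IsIso ((Grp.forget _).map e.hom))
  haveI : IsIso eh.left := inferInstanceAs (IsIso ((Over.forget _).map eh))
  haveI : Coalgebra.IsCocomm k A := isCocomm_of_comm fun Y a b => by
    rw [← cancel_mono (eh ≫ incl), MonObj.mul_comp, MonObj.mul_comp, ← Category.assoc, ← Category.assoc]
    exact hpt _ _
  haveI : Algebra.FiniteType k A := by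
    have h : LocallyOfFiniteType (specGrp (R := k) A).hom := by
      rw [← Over.w eh, ← Over.w incl]
      infer_instance
    change LocallyOfFiniteType (Spec.map (CommRingCat.ofHom (algebraMap k A))) at h
    rw [HasRingHomProperty.Spec_iff (P := @LocallyOfFiniteType), CommRingCat.hom_ofHom,
      RingHom.finiteType_algebraMap] at h
    exact h
  obtain ⟨J, _, hJ, -, B, _, _, φ, -, hJφ, hB⟩ := GrothLib.CommHopf14.exists_largest_multType (k := k) (A := A)
  haveI : Algebra.FiniteType k (A ⧸ J) := inferInstance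
  let i : specGrp (R := k) (A ⧸ J) ⟶ specGrp (R := k) A := specMap (Bialgebra.Quotient.mkBialgHom J)
  haveI : IsClosedImmersion i.left := IsClosedImmersion.spec_of_surjective
    (CommRingCat.ofHom (Ideal.Quotient.mk J)) Ideal.Quotient.mk_surjective
  let z : specGrp (R := k) (A ⧸ J) ⟶ G := i ≫ eh ≫ incl
  haveI hzm : IsMonHom z := inferInstance
  haveI hzc : IsClosedImmersion z.left := by
    rw [Over.comp_left, Over.comp_left]
    infer_instance
  refine ⟨specGrp (R := k) (A ⧸ J), inferInstance, z, hzm, hzc, Over.mono_of_mono_left z,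
    isMultTypeFT_specGrp hJ, fun X x g => ?_, fun S' f H _ v _ hH hv => ?_⟩
  · simp only [z, ← Category.assoc]
    exact hpt _ _
  · let y : (Over.map f).obj H ⟶ G := (bcPointMulEquiv f G H).symm v
    obtain ⟨z₀, hz₀⟩ := (hcen _ y).2 fun T' t g => by
      let T'' : Over S' := Over.mk (t.left ≫ H.hom)
      let x : T'' ⟶ H := Over.homMk t.left rfl
      let j : T' ⟶ (Over.map f).obj T'' := Over.homMk (𝟙 _)
        ((Category.id_comp _).trans ((Category.assoc _ _ _).trans (Over.w t)))
      haveI : IsIso ((Over.forget _).map j) := inferInstanceAs (IsIso (𝟙 _))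
      haveI : IsIso j := isIso_of_reflects_iso j (Over.forget _)
      have hj : t = j ≫ (Over.map f).map x := Over.OverMorphism.ext (Category.id_comp _).symm
      have hx : (Over.map f).map x ≫ y = (bcPointMulEquiv f G T'').symm (x ≫ v) := by
        apply (bcPointMulEquiv f G T'').injective
        rw [MulEquiv.apply_symm_apply]
        refine (bcPoint_comp f _ _).trans ?_
        exact congrArg (x ≫ ·) ((bcPointMulEquiv f G H).apply_symm_apply v)
      have h := congrArg (fun s => j ≫ (bcPointMulEquiv f G T'').symm s)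
        (hv T'' x (bcPointMulEquiv f G T'' (inv j ≫ g)))
      simp only [map_mul, MulEquiv.symm_apply_apply, MonObj.comp_mul, IsIso.hom_inv_id_assoc, ← hx] at h
      rw [hj, Category.assoc]
      exact h
    let z₁ : (Over.map f).obj H ⟶ specGrp (R := k) A := z₀ ≫ inv eh
    have hz₁ : z₁ ≫ eh ≫ incl = y := by simp [z₁, hz₀]
    let w₁ : H ⟶ Red.bc f (specGrp (R := k) A) := bcPointMulEquiv f _ H z₁
    have hw₁ : w₁ ≫ (Over.pullback f).map (eh ≫ incl) = v := by
      refine (bcPoint_comp_right f z₁ (eh ≫ incl)).symm.trans ?_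
      rw [hz₁]
      exact (bcPointMulEquiv f G H).apply_symm_apply v
    haveI : IsMonHom (w₁ ≫ (Over.pullback f).map (eh ≫ incl)) := by rw [hw₁]; infer_instance
    haveI : IsMonHom w₁ := isMonHom_of_comp w₁ ((Over.pullback f).map (eh ≫ incl))
    have hq : z₁ ≫ specMap φ = 1 := by
      apply (bcPointMulEquiv f (specGrp (R := k) B) H).injective
      rw [map_one]
      refine (bcPoint_comp_right f z₁ (specMap φ)).trans ?_
      exact hom_eq_one B f (hasChartsFpqc_of_isMultTypeFT hH) hB (w₁ ≫ (Over.pullback f).map (specMap φ))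
    obtain ⟨z₂, hz₂⟩ := exists_lift_kernel φ J hJφ z₁ hq
    refine ⟨bcPointMulEquiv f _ H z₂, ?_⟩
    refine (bcPoint_comp_right f z₂ z).symm.trans ?_
    have : z₂ ≫ z = y := by rw [← hz₁, ← hz₂, Category.assoc]
    rw [this]
    exact (bcPointMulEquiv f G H).apply_symm_apply v

end GrothLib.CentMT14
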