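import Groth.Agent.Lib.SubDesc14.Central
import Groth.Agent.Lib.SubDesc14.Group
import Groth.Agent.Lib.FpqcRep.Basic
import Groth.Agent.Lib.EssFree.Subgroup
import Groth.Agent.Lib.QuotTorus14.Split
import Groth.Agent.Lib.EtSite.FpqcDescent
import Groth.Agent.Lib.CentMT14.Reductive
import Groth.Agent.Lib.MultDef14.Affine

/-!
# A reductive centre defined fpqc locally descends
-/

universe u

open CategoryTheory MonoidalCategory CartesianMonoidalCategory MonObj GrpObj AlgebraicGeometry
open CategoryTheory.Limits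

set_option backward.isDefEq.respectTransparency false

namespace GrothLib.CentMT14

open GrothLib.DiagGrp GrothLib.SubDesc14

variable {S S' : Scheme.{u}} (π : S' ⟶ S) (G : Over S) [GrpObj G] {Z' : Over S'} [GrpObj Z']
  (z' : Z' ⟶ Red.bc π G)

/-- The universal property of the reductive centre, over the covering. -/
def IsUniv : Prop :=
  ∀ (S'' : Scheme.{u}) (f' : S'' ⟶ S') (H : Over S'') [GrpObj H] (v : H ⟶ Red.bc f' (Red.bc π G)) [IsMonHom v],
    SGA3x.IsMultTypeFT H →
    (∀ (X : Over S'') (x : X ⟶ H) (g : X ⟶ Red.bc f' (Red.bc π G)), (x ≫ v) * g = g * (x ≫ v)) →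
    ∃ w : H ⟶ Red.bc f' Z', w ≫ (Over.pullback f').map z' = v

/-- A point together with a lift of its base, seen over the covering. -/
noncomputable def toCov (T : Over S) (z : T.left ⟶ S') (hz : z ≫ π = T.hom) : T ⟶ (Over.map π).obj (Over.mk z) :=
  Over.homMk (𝟙 _) (by change 𝟙 _ ≫ z ≫ π = T.hom; rw [Category.id_comp, hz])

/-- The point of the group under a point of the subgroup. -/
noncomputable def ptOf (T : Over S) (z : T.left ⟶ S') (hz : z ≫ π = T.hom) (σ : Over.mk z ⟶ Z') : T ⟶ G :=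
  toCov π T z hz ≫ (bcPointMulEquiv π G (Over.mk z)).symm (σ ≫ z')

omit [GrpObj Z'] in
theorem symm_left {S S' : Scheme.{u}} (π : S' ⟶ S) (G : Over S) [GrpObj G] {T : Over S'} (y : T ⟶ Red.bc π G) :
    ((bcPointMulEquiv π G T).symm y).left = y.left ≫ pullback.fst G.hom π := by
  have h := bcPoint_left_fst π G T ((bcPointMulEquiv π G T).symm y)
  rw [show bcPoint π G T ((bcPointMulEquiv π G T).symm y) = y from (bcPointMulEquiv π G T).apply_symm_apply y] at h
  exact h.symm

omit [GrpObj Z'] in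
theorem ptOf_left (T : Over S) (z : T.left ⟶ S') (hz : z ≫ π = T.hom) (σ : Over.mk z ⟶ Z') :
    (ptOf π G z' T z hz σ).left = σ.left ≫ z'.left ≫ pullback.fst G.hom π := by
  rw [ptOf, Over.comp_left, symm_left, Over.comp_left, Category.assoc]
  exact Category.id_comp _

/-- A point lies in the subgroup over a lift of its base. -/
def Lies (T : Over S) (z : T.left ⟶ S') (hz : z ≫ π = T.hom) (g : T ⟶ G) : Prop :=
  ∃ σ : Over.mk z ⟶ Z', ptOf π G z' T z hz σ = g

/-- A point lies in the subgroup. -/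
def Mem (T : Over S) (g : T ⟶ G) : Prop :=
  ∀ (T' : Over S) (t : T' ⟶ T) (z : T'.left ⟶ S') (hz : z ≫ π = T'.hom), Lies π G z' T' z hz (t ≫ g)

variable {π G z'} [IsMonHom z']

omit [IsMonHom z'] in
theorem lies_of_central (hu : IsUniv π G z') {S'' : Scheme.{u}} (f : S'' ⟶ S) {H : Over S''} [GrpObj H]
    (v : H ⟶ Red.bc f G) [IsMonHom v] (hH : SGA3x.IsMultTypeFT H)
    (hv : ∀ (X : Over S'') (x : X ⟶ H) (g : X ⟶ Red.bc f G), (x ≫ v) * g = g * (x ≫ v))
    (T : Over S) (p : T.left ⟶ S'') (hp : p ≫ f = T.hom) (z : T.left ⟶ S') (hz : z ≫ π = T.hom)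
    (σ : Over.mk p ⟶ H) (g : T ⟶ G) (hg : g.left = σ.left ≫ v.left ≫ pullback.fst G.hom f) :
    Lies π G z' T z hz g := by
  let v₁ := pullSub f G v T.hom p hp.symm
  haveI : IsMonHom v₁ := isMonHom_pullSub f G v _ p hp.symm
  let c := compIso π G T.hom z hz.symm
  haveI : IsMonHom c.hom := (bcGrpComp G π z T.hom hz.symm).hom.hom.isMonHom_hom
  have hc : ∀ (X : Over T.left) (x : X ⟶ Red.bc p H) (y : X ⟶ Red.bc z (Red.bc π G)),
      (x ≫ v₁ ≫ c.hom) * y = y * (x ≫ v₁ ≫ c.hom) := fun X x y => by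
    obtain ⟨y, rfl⟩ : ∃ y', y' ≫ c.hom = y := ⟨y ≫ c.inv, by simp⟩
    have h := pullSub_central f G v T.hom p hp.symm (fun X g h => (hv X h g).symm) X y x
    have h2 := congrArg (· ≫ c.hom) h.symm
    simpa only [MonObj.mul_comp, Category.assoc] using h2
  obtain ⟨w, hw⟩ := hu T.left z (Red.bc p H) (v₁ ≫ c.hom)
    (GrothLib.QuotTorus14.isMultTypeFT_of_charts ((hasChartsFpqc_of_isMultTypeFT hH).baseChange p)) hc
  let s : Over.mk (𝟙 T.left) ⟶ Red.bc p H := Over.homMk
    (pullback.lift σ.left (𝟙 _) ((Over.w σ).trans (Category.id_comp _).symm)) (pullback.lift_snd _ _ _)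
  let τ : Over.mk z ⟶ Z' := Over.homMk ((s ≫ w).left ≫ pullback.fst Z'.hom z) (by
    change ((s ≫ w).left ≫ pullback.fst Z'.hom z) ≫ Z'.hom = z
    rw [Category.assoc, pullback.condition, ← Category.assoc]
    have h := Over.w (s ≫ w)
    exact (congrArg (· ≫ z) h).trans (Category.id_comp _))
  refine ⟨τ, Over.OverMorphism.ext ?_⟩
  rw [ptOf_left, hg]
  change ((s ≫ w).left ≫ pullback.fst Z'.hom z) ≫ z'.left ≫ pullback.fst G.hom π = _
  have h1 : pullback.fst Z'.hom z ≫ z'.left = ((Over.pullback z).map z').left ≫ pullback.fst (Red.bc π G).hom z :=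
    (pullback.lift_fst _ _ _).symm
  rw [Category.assoc, reassoc_of% h1, ← Category.assoc (s ≫ w).left, ← Over.comp_left, Category.assoc, hw,
    ← Category.assoc s v₁, Over.comp_left, Category.assoc, compIso_hom_fst π G T.hom z hz.symm, Over.comp_left,
    Category.assoc, pullSub_left_fst f G v T.hom p hp.symm, ← Category.assoc s.left]
  exact congrArg (· ≫ v.left ≫ pullback.fst G.hom f) (pullback.lift_fst _ _ _)

variable (hu : IsUniv π G z') (hH : SGA3x.IsMultTypeFT Z')
  (hc : ∀ (X : Over S') (x : X ⟶ Z') (g : X ⟶ Red.bc π G), (x ≫ z') * g = g * (x ≫ z'))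

include hu hH hc in
theorem mem_of_lies {T : Over S} {z : T.left ⟶ S'} {hz : z ≫ π = T.hom} {g : T ⟶ G} (h : Lies π G z' T z hz g) :
    Mem π G z' T g := by
  intro T' t z₂ hz₂
  obtain ⟨σ, rfl⟩ := h
  let σ' : Over.mk (t.left ≫ z) ⟶ Z' := Over.homMk (t.left ≫ σ.left) (by
    change (t.left ≫ σ.left) ≫ Z'.hom = t.left ≫ z
    rw [Category.assoc]
    exact congrArg (t.left ≫ ·) (Over.w σ))
  refine lies_of_central hu π z' hH hc T' (t.left ≫ z) (by rw [Category.assoc, hz]; exact Over.w t) z₂ hz₂ σ' _ ?_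
  rw [Over.comp_left, ptOf_left]
  exact (Category.assoc _ _ _).symm

/-- The presheaf of points lying in the subgroup. -/
noncomputable def memPsh (π : S' ⟶ S) (G : Over S) [GrpObj G] (z' : Z' ⟶ Red.bc π G) : GrothLib.RepLocal.Psh.{u} S where
  obj T := {g : T ⟶ G // Mem π G z' T g}
  map t g := ⟨t ≫ g.1, fun T' t' z hz => by rw [← Category.assoc]; exact g.2 T' (t' ≫ t) z hz⟩
  map_id T x := Subtype.ext (Category.id_comp _)
  map_comp f g x := Subtype.ext (Category.assoc _ _ _)

omit [GrpObj Z'] [IsMonHom z'] in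
theorem eq_of_left_eq {T : Over S'} [Mono z'.left] {a b : T.left ⟶ Z'.left} (h1 : a ≫ Z'.hom = b ≫ Z'.hom)
    (h2 : a ≫ z'.left ≫ pullback.fst G.hom π = b ≫ z'.left ≫ pullback.fst G.hom π) : a = b := by
  rw [← cancel_mono z'.left]
  apply pullback.hom_ext
  · simpa using h2
  · have h3 : z'.left ≫ pullback.snd G.hom π = Z'.hom := Over.w z'
    rw [Category.assoc, Category.assoc, h3, h1]

variable [Flat π] [Surjective π] (hcov : IsCover π)

omit [IsMonHom z'] in
include hcov in
theorem isGlued_memPsh : GrothLib.FpqcRep.IsGlued (fun _ : PUnit.{u + 1} => π) (memPsh π G z') := by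
  intro T a ha
  haveI : EffectiveEpi (pullback.snd π T.hom) :=
    DescentHom.effectiveEpi_of_cover π hcov T.hom _ _ (IsPullback.of_hasPullback π T.hom).flip
  let A := (a PUnit.unit).1
  have hd : ∀ {W : Scheme.{u}} (g₁ g₂ : W ⟶ pullback π T.hom),
      g₁ ≫ pullback.snd π T.hom = g₂ ≫ pullback.snd π T.hom → g₁ ≫ A.left = g₂ ≫ A.left := fun {W} g₁ g₂ h => by
    let R : Over S := Over.mk (g₁ ≫ pullback.fst π T.hom ≫ π)
    let r₁ : R ⟶ GrothLib.FpqcRep.pb (fun _ : PUnit.{u + 1} => π) T PUnit.unit := Over.homMk g₁ rfl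
    let r₂ : R ⟶ GrothLib.FpqcRep.pb (fun _ : PUnit.{u + 1} => π) T PUnit.unit := Over.homMk g₂ (by
      change g₂ ≫ pullback.fst π T.hom ≫ π = g₁ ≫ pullback.fst π T.hom ≫ π
      rw [pullback.condition, ← Category.assoc, ← h, Category.assoc])
    exact congrArg (fun x : (memPsh π G z').obj R => x.1.left)
      (ha PUnit.unit PUnit.unit R r₁ r₂ (Over.OverMorphism.ext h))
  have hA : pullback.fst π T.hom ≫ π = A.left ≫ G.hom := (Over.w A).symm
  have hfac := EffectiveEpi.fac (pullback.snd π T.hom) A.left hd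
  let g : T ⟶ G := Over.homMk (EffectiveEpi.desc (pullback.snd π T.hom) A.left hd) (by
    rw [← cancel_epi (pullback.snd π T.hom), reassoc_of% hfac, ← hA]
    exact pullback.condition)
  have hg : GrothLib.FpqcRep.pι (fun _ : PUnit.{u + 1} => π) T PUnit.unit ≫ g = A := Over.OverMorphism.ext hfac
  refine ⟨⟨g, fun T' t z hz => ?_⟩, fun _ => Subtype.ext hg, fun y hy => Subtype.ext (Over.OverMorphism.ext ?_)⟩
  · let k : T' ⟶ GrothLib.FpqcRep.pb (fun _ : PUnit.{u + 1} => π) T PUnit.unit :=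
      Over.homMk (pullback.lift z t.left (hz.trans (Over.w t).symm)) (by
        change pullback.lift _ _ _ ≫ pullback.fst π T.hom ≫ π = T'.hom
        rw [pullback.lift_fst_assoc, hz])
    have hk : k ≫ GrothLib.FpqcRep.pι (fun _ : PUnit.{u + 1} => π) T PUnit.unit = t :=
      Over.OverMorphism.ext (pullback.lift_snd _ _ _)
    rw [← hk, Category.assoc, hg]
    exact (a PUnit.unit).2 T' k z hz
  · rw [← cancel_epi (pullback.snd π T.hom)]
    exact (congrArg (fun x : (memPsh π G z').obj _ => x.1.left) (hy PUnit.unit)).trans hfac.symm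

include hu hH hc hcov in
/-- The subgroup descends, with its universal property. -/
theorem exists_descended_centre [Mono z'] :
    ∃ (Z : Over S) (_ : GrpObj Z) (z : Z ⟶ G), IsMonHom z ∧ Mono z ∧ SGA3x.IsMultTypeFT Z ∧
      (∀ (X : Over S) (x : X ⟶ Z) (g : X ⟶ G), (x ≫ z) * g = g * (x ≫ z)) ∧
      ∀ (S'' : Scheme.{u}) (f : S'' ⟶ S) (H : Over S'') [GrpObj H] (v : H ⟶ Red.bc f G) [IsMonHom v],
        SGA3x.IsMultTypeFT H →
        (∀ (X : Over S'') (x : X ⟶ H) (g : X ⟶ Red.bc f G), (x ≫ v) * g = g * (x ≫ v)) →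
        ∃ w : H ⟶ Red.bc f Z, w ≫ (Over.pullback f).map z = v := by
  haveI : Mono z'.left := inferInstanceAs (Mono ((Over.forget S').map z'))
  let ζ : (Over.map π).obj Z' ⟶ G := (bcPointMulEquiv π G Z').symm z'
  have hζ : ζ.left = z'.left ≫ pullback.fst G.hom π := symm_left π G z'
  have hζmem : Mem π G z' ((Over.map π).obj Z') ζ :=
    mem_of_lies (z := Z'.hom) (hz := rfl) hu hH hc ⟨Over.homMk (𝟙 Z'.left) (Category.id_comp _),
      Over.OverMorphism.ext (by rw [ptOf_left, hζ]; exact Category.id_comp _)⟩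
  let L : GrothLib.FpqcRep.LocalRep (fun _ : PUnit.{u + 1} => π) (memPsh π G z') :=
    { W := fun _ => (Over.map π).obj Z'
      q := fun _ => Z'.hom
      hq := fun _ => rfl
      n := fun _ => ⟨ζ, hζmem⟩
      existsUnique := fun _ T z hz x => by
        obtain ⟨σ, hσ⟩ := x.2 T (𝟙 T) z hz
        rw [Category.id_comp] at hσ
        refine ⟨Over.homMk σ.left (by
          change σ.left ≫ Z'.hom ≫ π = T.hom
          rw [← Category.assoc]
          exact (congrArg (· ≫ π) (Over.w σ)).trans hz), ⟨Over.w σ, Subtype.ext (Over.OverMorphism.ext ?_)⟩,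
          fun a ha => Over.OverMorphism.ext (eq_of_left_eq (T := Over.mk z) (z' := z')
            (ha.1.trans (Over.w σ).symm) ?_)⟩
        · change σ.left ≫ ζ.left = _
          rw [← hσ, ptOf_left, hζ]
        · have h := congrArg (fun x : (memPsh π G z').obj T => x.1.left) ha.2
          change a.left ≫ ζ.left = x.1.left at h
          rw [hζ, ← hσ, ptOf_left] at h
          exact h }
  have hmem : Presieve.ofArrows (fun _ : PUnit.{u + 1} => S') (fun _ => π) ∈ Scheme.fpqcPrecoverage S := by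
    rw [show (Presieve.ofArrows (fun _ : PUnit.{u + 1} => S') (fun _ => π)) = Presieve.singleton π from
      Presieve.ofArrows_of_unique _]
    refine ⟨?_, ?_⟩
    · rw [show Presieve.singleton π = (PreZeroHypercover.singleton.{0} π).presieve₀ from
        (PreZeroHypercover.presieve₀_singleton π).symm, Scheme.presieve₀_mem_qcPrecoverage_iff]
      exact ⟨fun {U} hU => by
        obtain ⟨W, hW, himg⟩ := hcov U hU
        exact IsCompactOpenCovered.iff_of_unique.mpr ⟨W, hW, himg⟩⟩
    · rw [Scheme.singleton_mem_precoverage_iff]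
      exact ⟨π.surjective, inferInstance⟩
  haveI : IsAffineHom Z'.hom := GrothLib.EssFree.isAffineHom_of_charts (hasChartsFpqc_of_isMultTypeFT hH)
  obtain ⟨M, m, hm⟩ := L.exists_representing hmem (isGlued_memPsh hcov) fun _ => inferInstance
  obtain ⟨e, he, hsq⟩ := L.exists_isPullback hm PUnit.unit
  let zM : M ⟶ G := m.1
  haveI hmono : Mono zM := ⟨fun a b h => (hm _ ((memPsh π G z').map a m)).unique rfl (Subtype.ext h.symm)⟩
  have hfac : ∀ {T : Over S} (g : T ⟶ G), Mem π G z' T g → ∃ a : T ⟶ M, a ≫ zM = g := fun g hg => by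
    obtain ⟨a, ha, -⟩ := hm _ ⟨g, hg⟩
    exact ⟨a, congrArg Subtype.val ha⟩
  have hMem : ∀ {T : Over S} (a : T ⟶ M), Mem π G z' T (a ≫ zM) := fun a => ((memPsh π G z').map a m).2
  obtain ⟨gM, hzM⟩ := GrothLib.EssFree.exists_grpObj_of_mono zM
    (fun T => hfac 1 fun T' t z hz => ⟨1, by rw [ptOf, MonObj.one_comp, map_one, MonObj.comp_one, MonObj.comp_one]⟩)
    (fun T a b => hfac _ fun T' t z hz => by
      obtain ⟨σ, hσ⟩ := hMem a T' t z hz
      obtain ⟨τ, hτ⟩ := hMem b T' t z hz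
      exact ⟨σ * τ, by
        rw [MonObj.comp_mul, ← hσ, ← hτ, ptOf, ptOf, ptOf, MonObj.mul_comp, map_mul, MonObj.comp_mul]⟩)
    (fun T a => hfac _ fun T' t z hz => by
      obtain ⟨σ, hσ⟩ := hMem a T' t z hz
      exact ⟨σ⁻¹, by rw [GrpObj.comp_inv, ← hσ, ptOf, ptOf, GrpObj.inv_comp, map_inv, GrpObj.comp_inv]⟩)
  haveI := hzM
  refine ⟨M, gM, zM, hzM, hmono, ?_, fun X x g => ?_, fun S'' f H _ v _ hH' hv => ?_⟩
  · let φ : Z' ⟶ Red.bc π M := bcPointMulEquiv π M Z' e
    have hφ : φ ≫ (Over.pullback π).map zM = z' := by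
      refine (bcPoint_comp_right π e zM).symm.trans ?_
      rw [show e ≫ zM = ζ from congrArg Subtype.val he]
      exact (bcPointMulEquiv π G Z').apply_symm_apply z'
    haveI : IsMonHom (φ ≫ (Over.pullback π).map zM) := by rw [hφ]; infer_instance
    haveI : IsMonHom φ := isMonHom_of_comp φ ((Over.pullback π).map zM)
    have hφl : φ.left = hsq.isoPullback.hom := by
      apply pullback.hom_ext
      · rw [IsPullback.isoPullback_hom_fst]
        exact bcPoint_left_fst π M Z' e
      · rw [IsPullback.isoPullback_hom_snd]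
        exact Over.w φ
    haveI : IsIso φ.left := by rw [hφl]; infer_instance
    haveI : IsIso ((Over.forget S').map φ) := ‹IsIso φ.left›
    haveI : IsIso φ := isIso_of_reflects_iso φ (Over.forget S')
    exact isMultTypeFT_descend π hcov (Grp.mkIso (asIso φ) (IsMonHom.one_hom _) (IsMonHom.mul_hom _)).symm hH
  · haveI : EffectiveEpi (pullback.fst X.hom π) :=
      DescentHom.effectiveEpi_of_cover π hcov X.hom _ _ (IsPullback.of_hasPullback X.hom π)
    let T : Over S := (Over.map π).obj (Over.mk (pullback.snd X.hom π))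
    let t : T ⟶ X := covMap π X
    obtain ⟨σ, hσ⟩ := hMem x T t (pullback.snd X.hom π) rfl
    haveI : IsIso ((Over.forget S).map (toCov π T (pullback.snd X.hom π) rfl)) := inferInstanceAs (IsIso (𝟙 _))
    haveI : IsIso (toCov π T (pullback.snd X.hom π) rfl) := isIso_of_reflects_iso _ (Over.forget S)
    obtain ⟨g', hg'⟩ : ∃ g', toCov π T (pullback.snd X.hom π) rfl ≫
        (bcPointMulEquiv π G (Over.mk (pullback.snd X.hom π))).symm g' = t ≫ g :=
      ⟨bcPointMulEquiv π G _ (inv (toCov π T (pullback.snd X.hom π) rfl) ≫ t ≫ g), by simp⟩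
    have h : t ≫ ((x ≫ zM) * g) = t ≫ (g * (x ≫ zM)) := by
      rw [MonObj.comp_mul, MonObj.comp_mul, ← hσ, ← hg', ptOf, ← MonObj.comp_mul, ← MonObj.comp_mul, ← map_mul,
        ← map_mul, hc]
    apply Over.OverMorphism.ext
    rw [← cancel_epi (pullback.fst X.hom π)]
    exact congrArg Over.Hom.left h
  · let y : (Over.map f).obj H ⟶ G := (bcPointMulEquiv f G H).symm v
    have hy : Mem π G z' _ y := fun T' t z hz => by
      refine lies_of_central hu f v hH' hv T' (t.left ≫ H.hom) (by rw [Category.assoc]; exact Over.w t) z hz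
        (Over.homMk t.left rfl) (t ≫ y) ?_
      rw [Over.comp_left, symm_left]
      rfl
    obtain ⟨a, ha⟩ := hfac y hy
    refine ⟨bcPointMulEquiv f M H a, (bcPoint_comp_right f a zM).symm.trans ?_⟩
    rw [ha]
    exact (bcPointMulEquiv f G H).apply_symm_apply v

end GrothLib.CentMT14
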