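import Groth.Agent.Lib.CentMT14.Reductive
import Groth.Agent.Lib.QuotTorus14.Split
import Groth.Agent.Lib.SubDesc14.Central
import Groth.Agent.Lib.DiagGrp.Bihom
import Groth.Agent.Lib.DiagGrp.FreeGraph
import Groth.Agent.Lib.QuotTorus14.Basic
import Groth.Agent.Lib.CommSub14.Basic
import Groth.Agent.Lib.MultDef14.SubTransporter
import Groth.Agent.Lib.FpqcDesc.ClosedImmersion

/-!
# The quotient by the reductive centre has trivial reductive centre
-/

universe u

open CategoryTheory MonoidalCategory CartesianMonoidalCategory MonObj GrpObj AlgebraicGeometry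
open CategoryTheory.Limits

set_option backward.isDefEq.respectTransparency false

namespace GrothLib.CentMT14

open GrothLib.DiagGrp GrothLib.MultHopf14

theorem isMultTypeFT_congr {S : Scheme.{u}} {H H' : Over S} [GrpObj H] [GrpObj H'] (hH : SGA3x.IsMultTypeFT H)
    (φ : H' ⟶ H) [IsMonHom φ] [IsIso φ] : SGA3x.IsMultTypeFT H' := by
  obtain ⟨W, π, h1, h2, h3, h4⟩ := hH
  refine ⟨W, π, h1, h2, h3, fun w => ?_⟩
  obtain ⟨U, hU, M, inst, hM, ⟨eM⟩⟩ := h4 w
  haveI : IsMonHom (asIso φ).hom := ‹IsMonHom φ›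
  exact ⟨U, hU, M, inst, hM, ⟨((Over.pullback (U.ι ≫ π)).mapGrp.mapIso (Grp.mkIso' (asIso φ))).trans eM⟩⟩

section Field

variable {k : Type u} [Field k]

/-- Homomorphisms from a group of multiplicative type to a unipotent group are trivial. -/
theorem hom_unip_eq_one {N : Over (Spec (CommRingCat.of k))} [GrpObj N] (hN : SGA3x.IsMultTypeFT N)
    {B : Type u} [CommRing B] [HopfAlgebra k B] (hB : HopfRep.IsUnipotent k B)
    (v : N ⟶ specGrp (R := k) B) [IsMonHom v] : v = 1 := by
  let f := 𝟙 (Spec (CommRingCat.of k))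
  let l : ∀ T : Over (Spec (CommRingCat.of k)), (Over.map f).obj T ⟶ T := fun T =>
    Over.homMk (𝟙 _) ((Category.id_comp _).trans (Category.comp_id _).symm)
  let l' : N ⟶ (Over.map f).obj N := Over.homMk (𝟙 _) ((Category.id_comp _).trans (Category.comp_id _))
  let w : N ⟶ Red.bc f (specGrp (R := k) B) := bcPointMulEquiv f (specGrp (R := k) B) N (l N ≫ v)
  have hw : ∀ (T : Over (Spec (CommRingCat.of k))) (x : T ⟶ N),
      x ≫ w = bcPointMulEquiv f (specGrp (R := k) B) T (l T ≫ x ≫ v) := fun T x => by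
    refine (bcPoint_comp f x _).symm.trans (congrArg _ ?_)
    rw [← Category.assoc, ← Category.assoc]
    congr 1
  haveI : IsMonHom w := isMonHom_of_points w fun T x y => by
    rw [hw, hw, hw, MonObj.mul_comp, MonObj.comp_mul, map_mul]
  have h1 : w = 1 := hom_eq_one B f (hasChartsFpqc_of_isMultTypeFT hN) hB w
  have h2 : l N ≫ v = 1 := (bcPointMulEquiv f (specGrp (R := k) B) N).injective (h1.trans (map_one _).symm)
  have h3 : l' ≫ l N = 𝟙 N := Over.OverMorphism.ext (Category.id_comp _)
  rw [← Category.id_comp v, ← h3, Category.assoc, h2, MonObj.comp_one]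

/-- A commutative extension of groups of multiplicative type is of multiplicative type. -/
theorem isMultTypeFT_of_extension {N E H : Over (Spec (CommRingCat.of k))} [GrpObj N] [GrpObj E] [GrpObj H]
    [IsAffine E.left] [LocallyOfFiniteType E.hom]
    (hcomm : ∀ (Y : Over (Spec (CommRingCat.of k))) (a b : Y ⟶ E), a * b = b * a)
    (p : E ⟶ H) [IsMonHom p] [Flat p.left] [Surjective p.left] [LocallyOfFinitePresentation p.left]
    (i : N ⟶ E) [IsMonHom i] (hker : AlgGrp.IsKernel i p)
    (hN : SGA3x.IsMultTypeFT N) (hH : SGA3x.IsMultTypeFT H) : SGA3x.IsMultTypeFT E := by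
  haveI : IsAffineHom E.hom := isAffineHom_of_isAffine _
  obtain ⟨A, _, _, ⟨e⟩⟩ := exists_hopf E inferInstance
  let eh : specGrp (R := k) A ⟶ E := e.hom.hom.hom
  haveI : IsMonHom eh := Mon.Hom.isMonHom_hom _
  haveI : IsIso eh := inferInstanceAs (IsIso ((Grp.forget _).map e.hom))
  haveI : IsIso eh.left := inferInstanceAs (IsIso ((Over.forget _).map eh))
  haveI : Coalgebra.IsCocomm k A := isCocomm_of_comm fun Y a b => by
    rw [← cancel_mono eh, MonObj.mul_comp, MonObj.mul_comp]
    exact hcomm _ _ _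
  haveI : Algebra.FiniteType k A := by
    have h : LocallyOfFiniteType (specGrp (R := k) A).hom := by
      rw [← Over.w eh]
      infer_instance
    change LocallyOfFiniteType (Spec.map (CommRingCat.ofHom (algebraMap k A))) at h
    rw [HasRingHomProperty.Spec_iff (P := @LocallyOfFiniteType), CommRingCat.hom_ofHom,
      RingHom.finiteType_algebraMap] at h
    exact h
  obtain ⟨J, _, hJ, -, B, _, _, φ, -, hJφ, hB⟩ := GrothLib.CommHopf14.exists_largest_multType (k := k) (A := A)
  haveI : Algebra.FiniteType k (A ⧸ J) := inferInstance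
  let einv : E ⟶ specGrp (R := k) A := e.inv.hom.hom
  haveI : IsMonHom einv := Mon.Hom.isMonHom_hom _
  let v : E ⟶ specGrp (R := k) B := einv ≫ specMap φ
  haveI : IsMonHom v := inferInstance
  have hiv : i ≫ v = 1 := hom_unip_eq_one hN hB (i ≫ v)
  have hv : v = 1 := by
    obtain ⟨d, hd⟩ := GrothLib.QuotTorus14.exists_desc p v fun C _ q a a' haa => by
      have hk : (a⁻¹ * a') ≫ p = toUnit _ ≫ η[H] := by
        rw [MonObj.mul_comp, GrpObj.inv_comp, ← haa, inv_mul_cancel, Hom.one_def]
      have hn : hker.lift (a⁻¹ * a') (toUnit _) hk ≫ i = a⁻¹ * a' := hker.lift_fst _ _ _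
      have h0 : (a⁻¹ * a') ≫ v = 1 := by rw [← hn, Category.assoc, hiv, MonObj.comp_one]
      rw [MonObj.mul_comp, GrpObj.inv_comp, inv_mul_eq_one] at h0
      exact h0
    haveI : IsMonHom (p ≫ d) := by rw [hd]; infer_instance
    haveI : IsMonHom d := GrothLib.QuotTorus14.isMonHom_desc p d
    rw [← hd, hom_unip_eq_one hH hB d, MonObj.comp_one]
  have hφ : 𝟙 (specGrp (R := k) A) ≫ specMap φ = 1 := by
    have h1 : eh ≫ einv = 𝟙 _ := congrArg (fun t => t.hom.hom) e.hom_inv_id
    rw [← h1, Category.assoc]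
    change eh ≫ v = 1
    rw [hv, MonObj.comp_one]
  obtain ⟨z, hz⟩ := exists_lift_kernel φ J hJφ _ hφ
  let m : specGrp (R := k) (A ⧸ J) ⟶ specGrp (R := k) A := specMap (Bialgebra.Quotient.mkBialgHom J)
  haveI : IsClosedImmersion m.left := IsClosedImmersion.spec_of_surjective
    (CommRingCat.ofHom (Ideal.Quotient.mk J)) Ideal.Quotient.mk_surjective
  haveI : Mono m := Over.mono_of_mono_left m
  haveI : IsSplitEpi m := ⟨⟨⟨z, hz⟩⟩⟩
  haveI : IsIso m := isIso_of_mono_of_isSplitEpi m
  let θ : specGrp (R := k) (A ⧸ J) ⟶ E := m ≫ eh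
  haveI : IsMonHom θ := inferInstance
  haveI : IsIso θ := inferInstance
  haveI : IsMonHom (inv θ) := isMonHom_of_comp_of_isIso θ
  exact isMultTypeFT_congr (isMultTypeFT_specGrp hJ) (inv θ)
where
  isMonHom_of_comp_of_isIso {X Y : Over (Spec (CommRingCat.of k))} [GrpObj X] [GrpObj Y] (θ : X ⟶ Y) [IsMonHom θ]
      [IsIso θ] : IsMonHom (inv θ) := by
    haveI : IsMonHom (asIso θ).hom := ‹IsMonHom θ›
    exact inferInstanceAs (IsMonHom (asIso θ).inv)

variable {G Z G' H : Over (Spec (CommRingCat.of k))} [GrpObj G] [GrpObj Z] [GrpObj G'] [GrpObj H]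

/-- Over a field: a central subgroup of multiplicative type of the quotient by the reductive centre is trivial. -/
theorem eq_one_of_field [IsAffine G.left] [LocallyOfFiniteType G.hom] [ConnectedSpace G.left]
    (z : Z ⟶ G) [IsMonHom z] [Mono z] (hZ : SGA3x.IsMultTypeFT Z)
    (hzc : ∀ (X : Over (Spec (CommRingCat.of k))) (x : X ⟶ Z) (g : X ⟶ G), (x ≫ z) * g = g * (x ≫ z))
    (hu : ∀ (E : Over (Spec (CommRingCat.of k))) [GrpObj E] (m : E ⟶ G) [IsMonHom m], SGA3x.IsMultTypeFT E →
      (∀ (X : Over (Spec (CommRingCat.of k))) (x : X ⟶ E) (g : X ⟶ G), (x ≫ m) * g = g * (x ≫ m)) →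
      ∃ w : E ⟶ Z, w ≫ z = m)
    (q : G ⟶ G') [IsMonHom q] [Flat q.left] [Surjective q.left] [LocallyOfFinitePresentation q.left]
    (hr : GrothLib.QuotTorus14.Rel z q) [IsClosedImmersion η[G'].left]
    (hH : SGA3x.IsMultTypeFT H) (v : H ⟶ G') [IsMonHom v]
    (hv : ∀ (X : Over (Spec (CommRingCat.of k))) (x : X ⟶ H) (g : X ⟶ G'), (x ≫ v) * g = g * (x ≫ v)) :
    v = 1 := by
  let δ : G ⊗ H ⟶ G' := (fst G H ≫ q) * (snd G H ≫ v)⁻¹
  let E : Over (Spec (CommRingCat.of k)) := pullback δ η[G']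
  let e : E ⟶ G ⊗ H := pullback.fst δ η[G']
  have sqE : IsPullback e.left (pullback.snd δ η[G']).left δ.left η[G'].left :=
    (IsPullback.of_hasPullback δ η[G']).map (Over.forget _)
  haveI : IsClosedImmersion e.left :=
    MorphismProperty.of_isPullback sqE.flip ‹IsClosedImmersion η[G'].left›
  haveI : Mono e := Over.mono_of_mono_left e
  have hmem : ∀ (T : Over (Spec (CommRingCat.of k))) (x : T ⟶ G ⊗ H),
      (∃ t : T ⟶ E, t ≫ e = x) ↔ (x ≫ fst G H) ≫ q = (x ≫ snd G H) ≫ v := by
    intro T x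
    have h1 : x ≫ δ = ((x ≫ fst G H) ≫ q) * ((x ≫ snd G H) ≫ v)⁻¹ := by
      simp only [δ, MonObj.comp_mul, GrpObj.comp_inv, Category.assoc]
    rw [← mul_inv_eq_one, ← h1, Hom.one_def]
    refine ⟨?_, fun h => ⟨pullback.lift x (toUnit T) h, pullback.lift_fst _ _ _⟩⟩
    rintro ⟨t, rfl⟩
    rw [Category.assoc, pullback.condition, ← Category.assoc]
    exact congrArg (· ≫ η[G']) (toUnit_unique _ _)
  obtain ⟨gE, hme⟩ := GrothLib.EssFree.exists_grpObj_of_mono e
    (fun T => (hmem T 1).2 (by simp only [MonObj.one_comp]))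
    (fun T a b => (hmem T _).2 (by
      simp only [MonObj.mul_comp, (hmem T _).1 ⟨a, rfl⟩, (hmem T _).1 ⟨b, rfl⟩]))
    (fun T a => (hmem T _).2 (by
      simp only [GrpObj.inv_comp, (hmem T _).1 ⟨a, rfl⟩]))
  haveI := hme
  let πG : E ⟶ G := e ≫ fst G H
  let πH : E ⟶ H := e ≫ snd G H
  haveI : IsMonHom πG := inferInstance
  haveI : IsMonHom πH := inferInstance
  have hπ : πG ≫ q = πH ≫ v := (hmem E e).1 ⟨𝟙 E, Category.id_comp e⟩
  have sq : IsPullback πG πH q v := by
    refine IsPullback.of_isLimit' ⟨hπ⟩ (PullbackCone.IsLimit.mk _ (fun s => ((hmem _ (lift s.fst s.snd)).2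
      (by simpa using s.condition)).choose) (fun s => ?_) (fun s => ?_) fun s t h1 h2 => ?_)
    · simp only [πG, ← Category.assoc, ((hmem _ (lift s.fst s.snd)).2 (by simpa using s.condition)).choose_spec,
        lift_fst]
    · simp only [πH, ← Category.assoc, ((hmem _ (lift s.fst s.snd)).2 (by simpa using s.condition)).choose_spec,
        lift_snd]
    · rw [← cancel_mono e, ((hmem _ (lift s.fst s.snd)).2 (by simpa using s.condition)).choose_spec]
      apply CartesianMonoidalCategory.hom_ext <;> simp only [Category.assoc, lift_fst, lift_snd]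
      exacts [h1, h2]
  have sq' : IsPullback πG.left πH.left q.left v.left := sq.map (Over.forget _)
  haveI : Flat πH.left := MorphismProperty.of_isPullback sq' ‹Flat q.left›
  haveI : Surjective πH.left := MorphismProperty.of_isPullback sq' ‹Surjective q.left›
  haveI : LocallyOfFinitePresentation πH.left :=
    MorphismProperty.of_isPullback sq' ‹LocallyOfFinitePresentation q.left›
  have hzq : ∀ (T : Over (Spec (CommRingCat.of k))) (n : T ⟶ Z), (n ≫ z) ≫ q = 1 := fun T n => by
    have h := (hr T 1 (n ≫ z)).2 ⟨n, _root_.one_mul _⟩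
    rw [← h, MonObj.one_comp]
  have hzi : z ≫ q = 1 ≫ v := by
    rw [← Category.id_comp z, hzq Z (𝟙 Z), MonObj.one_comp]
  let i : Z ⟶ E := sq.lift z 1 hzi
  have hiG : i ≫ πG = z := sq.lift_fst _ _ _
  have hiH : i ≫ πH = 1 := sq.lift_snd _ _ _
  haveI : IsMonHom i := isMonHom_of_points i fun T a b => by
    refine sq.hom_ext ?_ ?_
    · simp only [MonObj.mul_comp, Category.assoc, hiG]
    · simp only [MonObj.mul_comp, Category.assoc, hiH, MonObj.comp_one, _root_.mul_one]
  have hkH : ∀ s : PullbackCone πH η[H], s.fst ≫ πH = 1 := fun s => by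
    rw [s.condition, toUnit_unique s.snd (toUnit _), Hom.one_def]
  have hkG : ∀ s : PullbackCone πH η[H], ∃ n : s.pt ⟶ Z, 1 * (n ≫ z) = s.fst ≫ πG := fun s => (hr _ _ _).1 (by
    rw [MonObj.one_comp, Category.assoc, hπ, ← Category.assoc, hkH, MonObj.one_comp])
  have hker : AlgGrp.IsKernel i πH := by
    refine IsPullback.of_isLimit' ⟨hiH.trans Hom.one_def⟩ (PullbackCone.IsLimit.mk _
      (fun s => (hkG s).choose) (fun s => ?_) (fun s => toUnit_unique _ _) fun s t h1 _ => ?_)
    · refine sq.hom_ext ?_ ?_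
      · rw [Category.assoc, hiG]
        exact (_root_.one_mul _).symm.trans (hkG s).choose_spec
      · rw [Category.assoc, hiH, MonObj.comp_one, hkH]
    · rw [← cancel_mono z]
      refine Eq.trans ?_ ((_root_.one_mul _).symm.trans (hkG s).choose_spec).symm
      rw [← h1, Category.assoc, hiG]
  haveI : IsAffine H.left := by
    haveI := GrothLib.EssFree.isAffineHom_multTypeFT H hH
    exact isAffine_of_isAffineHom H.hom
  haveI : LocallyOfFiniteType H.hom := locallyOfFiniteType_of_isMultTypeFT hH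
  haveI : IsAffineHom G.hom := isAffineHom_of_isAffine _
  haveI : IsAffineHom H.hom := isAffineHom_of_isAffine _
  haveI : IsAffineHom (pullback.fst G.hom H.hom) := MorphismProperty.pullback_fst _ _ ‹IsAffineHom H.hom›
  haveI : IsAffine (G ⊗ H).left := isAffine_of_isAffineHom (pullback.fst G.hom H.hom)
  haveI : LocallyOfFiniteType (G ⊗ H).hom :=
    inferInstanceAs (LocallyOfFiniteType (pullback.fst G.hom H.hom ≫ G.hom))
  haveI : IsAffine E.left := isAffine_of_isAffineHom e.left
  haveI : LocallyOfFiniteType E.hom := by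
    rw [← Over.w e]; infer_instance
  -- the commutator pairing
  let c : G ⊗ E ⟶ G := fst G E * (snd G E ≫ πG) * (fst G E)⁻¹ * (snd G E ≫ πG)⁻¹
  obtain ⟨l₀, hl₀⟩ := (hr _ 1 c).1 (by
    simp only [c, MonObj.one_comp, MonObj.mul_comp, GrpObj.inv_comp, Category.assoc, hπ]
    rw [← Category.assoc, ← hv _ (snd G E ≫ πH) (fst G E ≫ q)]
    group)
  rw [_root_.one_mul] at hl₀
  have hl : ∀ (T : Over (Spec (CommRingCat.of k))) (g : T ⟶ G) (x : T ⟶ E),
      (lift g x ≫ l₀) ≫ z = g * (x ≫ πG) * g⁻¹ * (x ≫ πG)⁻¹ := fun T g x => by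
    rw [Category.assoc, hl₀]
    simp only [c, MonObj.comp_mul, GrpObj.comp_inv, lift_fst, lift_snd_assoc]
  have hlone : ∀ (T : Over (Spec (CommRingCat.of k))) (g : T ⟶ G) (x : T ⟶ E), lift g x ≫ l₀ = 1 := by
    intro T g x
    refine bihom_trivial_of_quot (G := G) (B := Z) πH i hker hH hZ l₀ ?_ ?_ ?_ T g x
    · intro T g x y
      rw [← cancel_mono z, MonObj.mul_comp, hl, hl, hl, MonObj.mul_comp]
      have hc := hzc T (lift g y ≫ l₀) (x ≫ πG)
      rw [hl] at hc
      calc g * ((x ≫ πG) * (y ≫ πG)) * g⁻¹ * ((x ≫ πG) * (y ≫ πG))⁻¹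
          = g * (x ≫ πG) * g⁻¹ * (x ≫ πG)⁻¹ *
              ((x ≫ πG) * (g * (y ≫ πG) * g⁻¹ * (y ≫ πG)⁻¹) * (x ≫ πG)⁻¹) := by group
        _ = _ := by rw [← hc]; group
    · intro T x
      rw [← cancel_mono z, hl, MonObj.one_comp]
      group
    · intro T g n
      rw [← cancel_mono z, hl, MonObj.one_comp, Category.assoc, hiG, ← hzc T n g]
      group
  have hcG : ∀ (T : Over (Spec (CommRingCat.of k))) (x : T ⟶ E) (g : T ⟶ G),
      (x ≫ πG) * g = g * (x ≫ πG) := fun T x g => by
    have h := hl T g x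
    rw [hlone, MonObj.one_comp, eq_comm, mul_inv_eq_one, mul_inv_eq_iff_eq_mul] at h
    exact h.symm
  have hcomm : ∀ (Y : Over (Spec (CommRingCat.of k))) (a b : Y ⟶ E), a * b = b * a := fun Y a b => by
    refine sq.hom_ext ?_ ?_
    · rw [MonObj.mul_comp, MonObj.mul_comp, hcG]
    · rw [MonObj.mul_comp, MonObj.mul_comp, mul_comm_of_charts (hasChartsFpqc_of_isMultTypeFT hH)]
  obtain ⟨w, hw⟩ := hu E πG (isMultTypeFT_of_extension hcomm πH i hker hZ hH) hcG
  haveI : Epi πH := GrothLib.QuotTorus14.epi_of_flat_surjective πH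
  rw [← cancel_epi πH, ← hπ, ← hw, hzq, MonObj.comp_one]

end Field

section Base

variable {S : Scheme.{u}} {G Z G' : Over S} [GrpObj G] [GrpObj Z] [GrpObj G']

theorem isPullback_kernel (z : Z ⟶ G) [Mono z] (q : G ⟶ G') [IsMonHom q] (hr : GrothLib.QuotTorus14.Rel z q) :
    IsPullback z (toUnit Z) q η[G'] := by
  have h0 : ∀ (T : Over S) (x : T ⟶ G), x ≫ q = 1 ↔ ∃ n : T ⟶ Z, n ≫ z = x := fun T x => by
    rw [← MonObj.one_comp (X := T) q, eq_comm, hr]
    simp only [_root_.one_mul]
  have hk : ∀ s : PullbackCone q η[G'], s.fst ≫ q = 1 := fun s => by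
    rw [s.condition, toUnit_unique s.snd (toUnit _), Hom.one_def]
  refine IsPullback.of_isLimit' ⟨?_⟩ (PullbackCone.IsLimit.mk _
    (fun s => ((h0 _ s.fst).1 (hk s)).choose) (fun s => ((h0 _ s.fst).1 (hk s)).choose_spec)
    (fun s => toUnit_unique _ _) fun s t h1 _ => ?_)
  · rw [← Hom.one_def]
    exact (h0 Z z).2 ⟨𝟙 Z, Category.id_comp z⟩
  · rw [← cancel_mono z, h1]
    exact ((h0 _ s.fst).1 (hk s)).choose_spec.symm

theorem connectedSpace_bc [LocallyOfFiniteType G.hom]
    (hconn : ∀ s : S, _root_.IsConnected (G.hom.base ⁻¹' {s}))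
    {K : Type u} [Field K] (g : Spec (CommRingCat.of K) ⟶ S) : ConnectedSpace (Red.bc g G).left := by
  have hG : GeometricallyConnected G.hom := by
    rw [GeometricallyConnected.iff_geometricallyConnected_fiber]
    intro s
    let A := Red.bc (S.fromSpecResidueField s) G
    haveI : LocallyOfFiniteType A.hom :=
      inferInstanceAs (LocallyOfFiniteType (pullback.snd G.hom (S.fromSpecResidueField s)))
    haveI : ConnectedSpace A.left := by
      haveI := isConnected_iff_connectedSpace.mp (hconn s)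
      exact (G.hom.fiberHomeo s).symm.surjective.connectedSpace (G.hom.fiberHomeo s).symm.continuous
    have h := GrothLib.CommSub14.geometricallyIrreducible_of_connected (k := S.residueField s) A
    exact ⟨fun L _ y W a b hh => by
      haveI : IrreducibleSpace W := h.geometrically_irreducibleSpace y a b hh
      infer_instance⟩
  exact GeometricallyConnected.geometrically_connectedSpace g _ _ (IsPullback.of_hasPullback G.hom g)

/-- The quotient by the reductive centre has trivial reductive centre. -/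
theorem eq_one_of_quotient [IsAffineHom G.hom] [LocallyOfFiniteType G.hom] [LocallyOfFinitePresentation Z.hom]
    (hconn : ∀ s : S, _root_.IsConnected (G.hom.base ⁻¹' {s}))
    (z : Z ⟶ G) [IsMonHom z] [Mono z] (hZ : SGA3x.IsMultTypeFT Z)
    (hzc : ∀ (X : Over S) (x : X ⟶ Z) (g : X ⟶ G), (x ≫ z) * g = g * (x ≫ z))
    (hu : ∀ (S' : Scheme.{u}) (f : S' ⟶ S) (H : Over S') [GrpObj H] (v : H ⟶ Red.bc f G) [IsMonHom v],
      SGA3x.IsMultTypeFT H →
      (∀ (X : Over S') (x : X ⟶ H) (g : X ⟶ Red.bc f G), (x ≫ v) * g = g * (x ≫ v)) →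
      ∃ w : H ⟶ Red.bc f Z, w ≫ (Over.pullback f).map z = v)
    (q : G ⟶ G') [IsMonHom q] [Flat q.left] [Surjective q.left] [LocallyOfFinitePresentation q.left]
    (hr : GrothLib.QuotTorus14.Rel z q)
    {S' : Scheme.{u}} (f : S' ⟶ S) {H : Over S'} [GrpObj H] (hH : SGA3x.IsMultTypeFT H)
    (v : H ⟶ Red.bc f G') [IsMonHom v]
    (hv : ∀ (X : Over S') (x : X ⟶ H) (g : X ⟶ Red.bc f G'), (x ≫ v) * g = g * (x ≫ v)) : v = 1 := by
  haveI := GrothLib.MultDef14.isClosedImmersion_of_mono hZ ‹IsAffineHom G.hom› z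
  haveI : LocallyOfFinitePresentation z.left := by
    haveI : LocallyOfFinitePresentation (z.left ≫ G.hom) := by rw [Over.w z]; infer_instance
    exact lfp_of_comp_of_lft _ G.hom ‹_› inferInstance
  have sqk := ((isPullback_kernel z q hr).map (Over.forget S))
  haveI hη1 : IsClosedImmersion η[G'].left :=
    MorphismProperty.of_isPullback_of_descendsAlong
      (Q := @Surjective ⊓ @Flat ⊓ @LocallyOfFinitePresentation) sqk
      ⟨⟨‹Surjective q.left›, ‹Flat q.left›⟩, ‹LocallyOfFinitePresentation q.left›⟩ ‹IsClosedImmersion z.left›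
  haveI hη2 : LocallyOfFinitePresentation η[G'].left :=
    MorphismProperty.of_isPullback_of_descendsAlong
      (Q := @Surjective ⊓ @Flat ⊓ @LocallyOfFinitePresentation) sqk
      ⟨⟨‹Surjective q.left›, ‹Flat q.left›⟩, ‹LocallyOfFinitePresentation q.left›⟩
      ‹LocallyOfFinitePresentation z.left›
  have key : ∀ {W : Scheme.{u}} (g : W ⟶ S),
      IsPullback η[Red.bc g G'].left g (pullback.fst G'.hom g) η[G'].left := by
    intro W g
    have h1 : η[Red.bc g G'].left ≫ pullback.fst G'.hom g = g ≫ η[G'].left := by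
      simp [Functor.obj.η_def]
    refine IsPullback.of_right ?_ h1 (IsPullback.of_hasPullback G'.hom g).flip
    have e1 : η[Red.bc g G'].left ≫ pullback.snd G'.hom g = 𝟙 W := Over.w η[Red.bc g G']
    have e2 : η[G'].left ≫ G'.hom = 𝟙 S := Over.w η[G']
    rw [e1, e2]
    exact IsPullback.id_horiz g
  have hcl : ∀ {W : Scheme.{u}} (g : W ⟶ S), IsClosedImmersion η[Red.bc g G'].left := fun g =>
    MorphismProperty.of_isPullback (key g).flip hη1
  have hlfp : ∀ {W : Scheme.{u}} (g : W ⟶ S), LocallyOfFinitePresentation η[Red.bc g G'].left := fun g =>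
    MorphismProperty.of_isPullback (key g).flip hη2
  haveI := hcl f
  haveI := hlfp f
  haveI : LocallyOfFinitePresentation (pullback.fst v.left η[Red.bc f G'].left) := inferInstance
  obtain ⟨U, -, hUiff, hU⟩ := exists_clopen_trivial v
    ((hasChartsFpqc_of_isMultTypeFT hH).mono fun _ _ _ => trivial)
  have hfib : ∀ s : S', (Over.pullback (S'.fromSpecResidueField s)).map v = 1 := by
    intro s
    let F := S'.fromSpecResidueField s
    let g : Spec (CommRingCat.of (S'.residueField s)) ⟶ S := F ≫ f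
    haveI := hcl g
    haveI : IsAffineHom (pullback.snd G.hom g) := MorphismProperty.pullback_snd _ _ ‹IsAffineHom G.hom›
    haveI : IsAffine (Red.bc g G).left := isAffine_of_isAffineHom (pullback.snd G.hom g)
    haveI : LocallyOfFiniteType (Red.bc g G).hom := inferInstanceAs (LocallyOfFiniteType (pullback.snd G.hom g))
    haveI := connectedSpace_bc hconn g
    haveI : (Over.pullback g).IsRightAdjoint := (Over.mapPullbackAdj g).isRightAdjoint
    have sqq := GrothLib.DiagGrp.isPullback_overMap q g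
    haveI : Flat ((Over.pullback g).map q).left := MorphismProperty.of_isPullback sqq.flip ‹Flat q.left›
    haveI : Surjective ((Over.pullback g).map q).left :=
      MorphismProperty.of_isPullback sqq.flip ‹Surjective q.left›
    haveI : LocallyOfFinitePresentation ((Over.pullback g).map q).left :=
      MorphismProperty.of_isPullback sqq.flip ‹LocallyOfFinitePresentation q.left›
    haveI := GrothLib.SubDesc14.isMonHom_pullSub f G' v g F rfl
    have h := eq_one_of_field (k := S'.residueField s) ((Over.pullback g).map z) (GrothLib.QuotTorus14.isMultTypeFT_of_charts ((hasChartsFpqc_of_isMultTypeFT hZ).baseChange g))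
      (fun X x y => (central_bc g z (fun X y h => (hzc X h y).symm) (𝟙 _) X y x).symm)
      (fun E _ m _ hE hc => hu _ g E m hE hc)
      ((Over.pullback g).map q) (hr.bc g) (GrothLib.QuotTorus14.isMultTypeFT_of_charts ((hasChartsFpqc_of_isMultTypeFT hH).baseChange F)) (GrothLib.SubDesc14.pullSub f G' v g F rfl)
      (fun X x y => (GrothLib.SubDesc14.pullSub_central f G' v g F rfl (fun X y h => (hv X h y).symm) X y x).symm)
    haveI : IsMonHom (GrothLib.SubDesc14.compIso f G' g F rfl).inv :=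
      GrothLib.SubDesc14.isMonHom_compIso_inv f G' g F rfl
    rw [← cancel_mono (GrothLib.SubDesc14.compIso f G' g F rfl).inv, MonObj.one_comp]
    exact h
  have hUtop : U = ⊤ := eq_top_iff.mpr fun s _ => (hUiff s).2 (hfib s)
  subst hUtop
  have ht : TrivOver v (𝟙 S') := ((trivOver_iff_pullback_eq_one v _).mp hU).precomp (Scheme.topIso S').inv _
    ((Scheme.topIso S').inv_hom_id.symm)
  exact (Category.id_comp v).symm.trans (ht H H.hom (Category.comp_id _) (𝟙 H))

end Base

end GrothLib.CentMT14
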