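import Groth.Agent.Lib.CentMT14.UnipFun
import Groth.Agent.Lib.MultHopf14.FromScheme
import Groth.Agent.Lib.DiagGrp.BaseChange

/-!
# Homomorphisms from groups of multiplicative type to unipotent groups are trivial
-/

universe u

open CategoryTheory MonoidalCategory CartesianMonoidalCategory MonObj GrpObj AlgebraicGeometry
open CategoryTheory.Limits
open scoped TensorProduct

set_option backward.isDefEq.respectTransparency false

namespace GrothLib.CentMT14

open GrothLib.DiagGrp GrothLib.MultHopf14

variable {k : Type u} [Field k] (B : Type u) [CommRing B] [HopfAlgebra k B]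
  {S' W : Scheme.{u}} (f : S' ⟶ Spec (CommRingCat.of k)) (π : W ⟶ S')
  {H : Over S'} [GrpObj H] {M : Type} [AddCommGroup M] (e : Grp.mk (Red.bc π H) ≅ Grp.mk (Red.DS W M))
  {C : Type u} [CommRing C] [Algebra k C] (p : Spec (CommRingCat.of C) ⟶ W)
  (hp : p ≫ π ≫ f = Spec.map (CommRingCat.ofHom (algebraMap k C)))
  (u : H ⟶ Red.bc f (specGrp (R := k) B))

section

variable (D : Type u) [CommRing D] [Algebra k D] [Algebra C D] [IsScalarTower k C D]

/-- A structure morphism after a change of algebra. -/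
noncomputable abbrev pD : Spec (CommRingCat.of D) ⟶ W := Spec.map (CommRingCat.ofHom (algebraMap C D)) ≫ p

include hp in
theorem pD_comp : pD p D ≫ π ≫ f = Spec.map (CommRingCat.ofHom (algebraMap k D)) := by
  rw [pD, Category.assoc, hp, ← Spec.map_comp, ← CommRingCat.ofHom_comp, ← IsScalarTower.algebraMap_eq]

/-- An affine point over the field, seen over the chart. -/
noncomputable def toChart : (Spec (CommRingCat.of D)).asOver (Spec (CommRingCat.of k)) ⟶
    (Over.map f).obj ((Over.map π).obj (Over.mk (pD p D))) :=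
  Over.homMk (𝟙 _) (by
    change 𝟙 _ ≫ (pD p D ≫ π) ≫ f = Spec.map (CommRingCat.ofHom (algebraMap k D))
    rw [Category.id_comp, Category.assoc, pD_comp f π p hp])

/-- The points of the unipotent group attached to characters over a chart. -/
noncomputable def pts (χ : Multiplicative M →* D) : B →ₐ[k] D :=
  (Spec.mapMulEquiv.symm (toChart f π p hp D ≫
    (bcPointMulEquiv f (specGrp (R := k) B) _).symm (ptG π e (pD p D) χ ≫ u))).ofConv

theorem mapMulEquiv_pts (χ : Multiplicative M →* D) :
    Spec.mapMulEquiv (WithConv.toConv (pts B f π e p hp u D χ)) = toChart f π p hp D ≫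
      (bcPointMulEquiv f (specGrp (R := k) B) _).symm (ptG π e (pD p D) χ ≫ u) := by
  rw [pts]
  simp

theorem pts_mul [IsMonHom u] (χ χ' : Multiplicative M →* D) (b : B) :
    pts B f π e p hp u D (χ * χ') b = Algebra.TensorProduct.lift (pts B f π e p hp u D χ)
      (pts B f π e p hp u D χ') (fun _ _ => Commute.all _ _) (Coalgebra.comul (R := k) b) := by
  have h : WithConv.toConv (pts B f π e p hp u D (χ * χ')) =
      WithConv.toConv (pts B f π e p hp u D χ) * WithConv.toConv (pts B f π e p hp u D χ') := by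
    apply Spec.mapMulEquiv.injective
    rw [map_mul, mapMulEquiv_pts, mapMulEquiv_pts, mapMulEquiv_pts, ← MonObj.comp_mul, ptG_mul, MonObj.mul_comp,
      map_mul]
  have h2 := congrArg (fun t : WithConv (B →ₐ[k] D) => t.ofConv b) h
  simp only [WithConv.ofConv_toConv] at h2
  rw [h2, AlgHom.convMul_apply]

end

theorem pts_comp (D D' : Type u) [CommRing D] [Algebra k D] [Algebra C D] [IsScalarTower k C D] [CommRing D']
    [Algebra k D'] [Algebra C D'] [IsScalarTower k C D'] (h : D →ₐ[C] D') (χ : Multiplicative M →* D) (b : B) :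
    pts B f π e p hp u D' ((h : D →* D').comp χ) b = h (pts B f π e p hp u D χ b) := by
  have hh : Spec.map (CommRingCat.ofHom (h : D →+* D')) ≫ pD p D = pD p D' := by
    rw [pD, pD, ← Category.assoc, ← Spec.map_comp, ← CommRingCat.ofHom_comp, AlgHom.comp_algebraMap]
  let m : Over.mk (pD p D') ⟶ Over.mk (pD p D) := Over.homMk (Spec.map (CommRingCat.ofHom (h : D →+* D'))) hh
  let n : (Spec (CommRingCat.of D')).asOver (Spec (CommRingCat.of k)) ⟶
      (Spec (CommRingCat.of D)).asOver (Spec (CommRingCat.of k)) :=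
    Over.homMk (Spec.map (CommRingCat.ofHom (h : D →+* D'))) (by
      change Spec.map _ ≫ Spec.map (CommRingCat.ofHom (algebraMap k D)) =
        Spec.map (CommRingCat.ofHom (algebraMap k D'))
      rw [← Spec.map_comp, ← CommRingCat.ofHom_comp]
      congr 2
      exact (h.restrictScalars k).comp_algebraMap)
  have key : WithConv.toConv (pts B f π e p hp u D' ((h : D →* D').comp χ)) =
      WithConv.toConv ((h.restrictScalars k).comp (pts B f π e p hp u D χ)) := by
    apply Spec.mapMulEquiv.injective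
    have hr : Spec.mapMulEquiv (WithConv.toConv ((h.restrictScalars k).comp (pts B f π e p hp u D χ))) =
        n ≫ Spec.mapMulEquiv (WithConv.toConv (pts B f π e p hp u D χ)) :=
      Over.OverMorphism.ext (Spec.map_comp _ _)
    have hnat : toChart f π p hp D' ≫ (Over.map f).map ((Over.map π).map m) = n ≫ toChart f π p hp D :=
      Over.OverMorphism.ext ((Category.id_comp _).trans (Category.comp_id _).symm)
    rw [hr, mapMulEquiv_pts, mapMulEquiv_pts, ← Category.assoc n, ← hnat, Category.assoc]
    congr 1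
    apply (bcPointMulEquiv f (specGrp (R := k) B) _).injective
    rw [MulEquiv.apply_symm_apply]
    refine Eq.trans ?_ (bcPoint_comp f _ _).symm
    change _ = (Over.map π).map m ≫ bcPointMulEquiv f _ _ ((bcPointMulEquiv f _ _).symm _)
    rw [MulEquiv.apply_symm_apply, ← Category.assoc]
    exact congrArg (· ≫ u) (ptG_comp π e _ _ (h : D →+* D') χ hh).symm
  exact congrArg (fun t : WithConv (B →ₐ[k] D') => t.ofConv b) key

include hp in
theorem ptG_comp_eq_one [IsMonHom u] (hB : HopfRep.IsUnipotent k B) (χ : Multiplicative M →* C) :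
    ptG π e p χ ≫ u = 1 := by
  have h1 : WithConv.toConv (pts B f π e p hp u C χ) = 1 := by
    apply WithConv.ofConv_injective
    refine AlgHom.ext fun b => ?_
    rw [AlgHom.convOne_apply]
    exact eq_counit hB (fun D _ _ _ _ χ => pts B f π e p hp u D χ)
      (fun D D' _ _ _ _ _ _ _ _ h χ b => pts_comp B f π e p hp u D D' h χ b)
      (fun D _ _ _ _ χ χ' b => pts_mul B f π e p hp u D χ χ' b) χ b
  have h2 := congrArg Spec.mapMulEquiv h1
  rw [map_one, mapMulEquiv_pts] at h2
  haveI : IsIso (toChart f π p hp C).left := inferInstanceAs (IsIso (𝟙 _))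
  haveI : IsIso ((Over.forget _).map (toChart f π p hp C)) := ‹IsIso (toChart f π p hp C).left›
  haveI : IsIso (toChart f π p hp C) := isIso_of_reflects_iso _ (Over.forget _)
  rw [← MonObj.comp_one (toChart f π p hp C), cancel_epi] at h2
  have h3 := (bcPointMulEquiv f (specGrp (R := k) B) _).symm.injective (h2.trans (map_one _).symm)
  have e0 : pD p C = p := by
    rw [pD, Algebra.algebraMap_self, CommRingCat.ofHom_id, Spec.map_id, Category.id_comp]
  rwa [e0] at h3

omit [Algebra k C] in
/-- Homomorphisms from groups of multiplicative type to unipotent groups are trivial. -/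
theorem hom_eq_one {H : Over S'} [GrpObj H] {Q : ∀ (M : Type), AddCommGroup M → Prop} (hH : HasChartsFpqc Q H)
    (hB : HopfRep.IsUnipotent k B) (u : H ⟶ Red.bc f (specGrp (R := k) B)) [IsMonHom u] : u = 1 := by
  obtain ⟨S'', π, hflat, hsurj, -, hloc⟩ := hH
  haveI := hflat
  haveI := hsurj
  apply Over.OverMorphism.ext
  haveI : Epi (pullback.fst H.hom π) := Flat.epi_of_flat_of_surjective _
  rw [← cancel_epi (pullback.fst H.hom π)]
  refine Scheme.hom_ext_of_forall _ _ fun P => ?_
  obtain ⟨U, hU, hch⟩ := hloc ((pullback.snd H.hom π).base P)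
  obtain ⟨V, hV, hPV, hVU⟩ := exists_isAffineOpen_mem_and_subset (show P ∈ (pullback.snd H.hom π) ⁻¹ᵁ U from hU)
  refine ⟨V, hPV, ?_⟩
  obtain ⟨M, inst, -, ⟨e⟩⟩ := hch
  letI := inst
  have hr : Set.range (hV.fromSpec ≫ pullback.snd H.hom π).base ⊆ Set.range U.ι.base := by
    rintro _ ⟨z, rfl⟩
    rw [U.range_ι]
    exact hVU (show hV.fromSpec.base z ∈ (V : Set _) by rw [← hV.range_fromSpec]; exact ⟨z, rfl⟩)
  set p := IsOpenImmersion.lift U.ι _ hr
  let j : (Over.map (U.ι ≫ π)).obj (Over.mk p) ⟶ H := Over.homMk (hV.fromSpec ≫ pullback.fst H.hom π) (by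
    change (hV.fromSpec ≫ pullback.fst H.hom π) ≫ H.hom = p ≫ U.ι ≫ π
    rw [Category.assoc, pullback.condition, ← Category.assoc p, IsOpenImmersion.lift_fac, Category.assoc])
  obtain ⟨χ, hχ⟩ := exists_ptG_eq (U.ι ≫ π) e p j
  let alg : CommRingCat.of k ⟶ Γ(pullback H.hom π, V) := Spec.preimage (p ≫ (U.ι ≫ π) ≫ f)
  letI : Algebra k Γ(pullback H.hom π, V) := alg.hom.toAlgebra
  have hp : p ≫ (U.ι ≫ π) ≫ f = Spec.map (CommRingCat.ofHom (algebraMap k Γ(pullback H.hom π, V))) :=
    (Spec.map_preimage _).symm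
  have h := ptG_comp_eq_one B f (U.ι ≫ π) e p hp u hB χ
  rw [hχ, ← MonObj.comp_one j] at h
  have h2 : hV.isoSpec.hom ≫ (hV.fromSpec ≫ pullback.fst H.hom π) ≫ u.left =
      hV.isoSpec.hom ≫ (hV.fromSpec ≫ pullback.fst H.hom π) ≫ (1 : H ⟶ Red.bc f (specGrp (R := k) B)).left :=
    congrArg (fun t => hV.isoSpec.hom ≫ t.left) h
  rw [← IsAffineOpen.isoSpec_hom_fromSpec hV]
  exact (Category.assoc _ _ _).trans (((congrArg (hV.isoSpec.hom ≫ ·) (Category.assoc _ _ _)).symm.trans
    (h2.trans (congrArg (hV.isoSpec.hom ≫ ·) (Category.assoc _ _ _)))).trans (Category.assoc _ _ _).symm)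

end GrothLib.CentMT14
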