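import Groth.Agent.Lib.HopfAG.Unip
import Mathlib.Algebra.MonoidAlgebra.MapDomain
import Mathlib.RingTheory.HopfAlgebra.Basic

/-!
# Multiplicative families of points of a unipotent group, indexed by characters, are trivial
-/

universe u

open TensorProduct HopfRep GrothLib.Unip

namespace GrothLib.CentMT14

variable {k : Type u} [Field k] {B : Type u} [CommRing B] [HopfAlgebra k B]

section

variable {C : Type u} [CommRing C] {N : Type} [CommMonoid N]

theorem eq_zero_of_additive [DecidableEq N] {x : MonoidAlgebra C N}
    (h : MonoidAlgebra.mapDomainAlgHom C C ((MonoidHom.id N).prod (MonoidHom.id N)) x =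
      MonoidAlgebra.mapDomainAlgHom C C (MonoidHom.inl N N) x +
        MonoidAlgebra.mapDomainAlgHom C C (MonoidHom.inr N N) x) : x = 0 := by
  let c : N × N → MonoidAlgebra C (N × N) →ₗ[C] C := fun m =>
    (Finsupp.lapply m).comp (MonoidAlgebra.coeffLinearEquiv C).toLinearMap
  let d : N → MonoidAlgebra C N →ₗ[C] C := fun m =>
    (Finsupp.lapply m).comp (MonoidAlgebra.coeffLinearEquiv C).toLinearMap
  have hc : ∀ (f : N →* N × N) (m : N) (v : N × N) (p : Prop) [Decidable p],
      (∀ n, f n = v ↔ n = m ∧ p) → ∀ y, c v (MonoidAlgebra.mapDomainAlgHom C C f y) = if p then d m y else 0 := by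
    intro f m v p _ hf y
    induction y using MonoidAlgebra.induction_linear with
    | zero => simp
    | add a b ha hb => rw [map_add, map_add, ha, hb, map_add]; split_ifs <;> simp
    | single n r =>
      simp only [MonoidAlgebra.mapDomainAlgHom_apply, MonoidAlgebra.mapDomain_single]
      change Finsupp.single (f n) r v = if p then Finsupp.single n r m else 0
      simp only [Finsupp.single_apply, hf n]
      split_ifs <;> simp_all
  refine (MonoidAlgebra.coeffLinearEquiv C).injective (Finsupp.ext fun m => ?_)
  change d m x = d m 0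
  rw [map_zero]
  have hh := congrArg (c (m, m)) h
  rw [map_add, hc ((MonoidHom.id N).prod (MonoidHom.id N)) m (m, m) True (fun n => by simp [Prod.ext_iff]),
    hc (MonoidHom.inl N N) m (m, m) (m = 1) (fun n => by simp [Prod.ext_iff, eq_comm]),
    hc (MonoidHom.inr N N) m (m, m) (m = 1) (fun n => by simp [Prod.ext_iff, eq_comm, and_comm])] at hh
  simp only [if_true] at hh
  by_cases hm : m = 1
  · simpa [hm] using hh
  · simpa [hm] using hh

end

/-- A natural multiplicative family of points of a unipotent group indexed by characters is trivial. -/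
theorem eq_counit {C : Type u} [CommRing C] [Algebra k C] {M : Type} [AddCommGroup M] (hB : IsUnipotent k B)
    (F : ∀ (D : Type u) [CommRing D] [Algebra k D] [Algebra C D] [IsScalarTower k C D],
      (Multiplicative M →* D) → (B →ₐ[k] D))
    (hnat : ∀ (D D' : Type u) [CommRing D] [Algebra k D] [Algebra C D] [IsScalarTower k C D] [CommRing D']
      [Algebra k D'] [Algebra C D'] [IsScalarTower k C D'] (h : D →ₐ[C] D') (χ : Multiplicative M →* D) (b : B),
      F D' ((h : D →* D').comp χ) b = h (F D χ b))
    (hmul : ∀ (D : Type u) [CommRing D] [Algebra k D] [Algebra C D] [IsScalarTower k C D]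
      (χ χ' : Multiplicative M →* D) (b : B),
      F D (χ * χ') b = Algebra.TensorProduct.lift (F D χ) (F D χ') (fun _ _ => Commute.all _ _)
        (Coalgebra.comul (R := k) b))
    (χ : Multiplicative M →* C) (b : B) : F C χ b = algebraMap k C (Coalgebra.counit (R := k) b) := by
  classical
  let χu : Multiplicative M →* MonoidAlgebra C (Multiplicative M) := MonoidAlgebra.of C (Multiplicative M)
  let φ := F (MonoidAlgebra C (Multiplicative M)) χu
  let D₂ := MonoidAlgebra C (Multiplicative M × Multiplicative M)
  let hΔ : MonoidAlgebra C (Multiplicative M) →ₐ[C] D₂ :=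
    MonoidAlgebra.mapDomainAlgHom C C ((MonoidHom.id _).prod (MonoidHom.id _))
  let hL : MonoidAlgebra C (Multiplicative M) →ₐ[C] D₂ :=
    MonoidAlgebra.mapDomainAlgHom C C (MonoidHom.inl _ _)
  let hR : MonoidAlgebra C (Multiplicative M) →ₐ[C] D₂ :=
    MonoidAlgebra.mapDomainAlgHom C C (MonoidHom.inr _ _)
  have hχ : (hΔ : MonoidAlgebra C (Multiplicative M) →* D₂).comp χu =
      (hL : MonoidAlgebra C (Multiplicative M) →* D₂).comp χu * (hR : MonoidAlgebra C (Multiplicative M) →* D₂).comp χu :=
    MonoidHom.ext fun m => by
      show hΔ (MonoidAlgebra.single m 1) = hL (MonoidAlgebra.single m 1) * hR (MonoidAlgebra.single m 1)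
      have hs : ∀ (g : Multiplicative M →* Multiplicative M × Multiplicative M),
          MonoidAlgebra.mapDomainAlgHom C C g (MonoidAlgebra.single m 1) = MonoidAlgebra.single (g m) 1 :=
        fun g => MonoidAlgebra.mapDomain_single
      refine (hs _).trans (Eq.trans ?_ (congrArg₂ (· * ·) (hs _) (hs _)).symm)
      rw [MonoidAlgebra.single_mul_single, mul_one]
      congr 1
      simp
  let f := Algebra.TensorProduct.lift (F D₂ ((hL : MonoidAlgebra C (Multiplicative M) →* D₂).comp χu))
    (F D₂ ((hR : MonoidAlgebra C (Multiplicative M) →* D₂).comp χu)) (fun _ _ => Commute.all _ _)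
  have key : ∀ n, ∀ a ∈ soc k B B n, φ a = algebraMap k _ (Coalgebra.counit (R := k) a) := by
    intro n
    induction n with
    | zero => intro a ha; rw [(Submodule.mem_bot k).1 ha, map_zero, map_zero, map_zero]
    | succ n ih =>
      intro a ha
      obtain ⟨z, hz⟩ := mem_next.1 ha
      refine sub_eq_zero.1 (eq_zero_of_additive ?_)
      have hlow : ∀ w : soc k B B n ⊗[k] B, f ((soc k B B n).subtype.rTensor B w) =
          hR (φ (TensorProduct.lid k B
            ((Coalgebra.counit (R := k) (A := B)).rTensor B ((soc k B B n).subtype.rTensor B w)))) := fun w => by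
        induction w using TensorProduct.induction_on with
        | zero => simp
        | tmul x y =>
          simp only [LinearMap.rTensor_tmul, Submodule.subtype_apply, f, Algebra.TensorProduct.lift_tmul,
            TensorProduct.lid_tmul, map_smul, hnat]
          change hL (φ (x : B)) * hR (φ y) = _
          rw [ih _ x.2, IsScalarTower.algebraMap_apply k C, AlgHom.commutes, Algebra.smul_def,
            ← AlgHom.map_algebraMap hR]
          rw [← map_mul, ← IsScalarTower.algebraMap_apply]
        | add p q hp hq => simp only [map_add, hp, hq]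
      have h := hlow z
      rw [hz] at h
      have e1 : f (Coalgebra.comul (R := k) a - a ⊗ₜ[k] (1 : B)) = hΔ (φ a) - hL (φ a) := by
        rw [map_sub, Algebra.TensorProduct.lift_tmul, map_one, mul_one, ← hmul, ← hχ, hnat, hnat]
      have e2 : TensorProduct.lid k B ((Coalgebra.counit (R := k) (A := B)).rTensor B
          (Coalgebra.comul (R := k) a - a ⊗ₜ[k] (1 : B))) = a - Coalgebra.counit (R := k) a • (1 : B) := by
        rw [map_sub, map_sub, Coalgebra.rTensor_counit_comul, LinearMap.rTensor_tmul, TensorProduct.lid_tmul,
          TensorProduct.lid_tmul, one_smul]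
      rw [show (HopfRep.Comod.coact (k := k) (A := B) a : B ⊗[k] B) = Coalgebra.comul (R := k) a from rfl,
        e1, e2, map_sub, map_smul, map_one, Algebra.smul_def, mul_one, map_sub, sub_eq_iff_eq_add] at h
      change hΔ _ = hL _ + hR _
      have hs : ∀ (g : MonoidAlgebra C (Multiplicative M) →ₐ[C] D₂) (r : k),
          g (algebraMap k _ r) = algebraMap k D₂ r := fun g r => by
        rw [IsScalarTower.algebraMap_apply k C (MonoidAlgebra C (Multiplicative M)), AlgHom.commutes,
          ← IsScalarTower.algebraMap_apply]
      rw [map_sub, map_sub, map_sub, h, hs, hs, hs]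
      abel
  obtain ⟨n, hn⟩ := exists_mem_soc hB b
  let ev : MonoidAlgebra C (Multiplicative M) →ₐ[C] C := MonoidAlgebra.lift C C (Multiplicative M) χ
  have hev : (ev : MonoidAlgebra C (Multiplicative M) →* C).comp χu = χ :=
    MonoidHom.ext fun m => by simp [ev, χu]
  conv_lhs => rw [← hev]
  rw [hnat, key n b hn, IsScalarTower.algebraMap_apply k C (MonoidAlgebra C (Multiplicative M)), AlgHom.commutes]
  exact rfl

end GrothLib.CentMT14
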